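import Groth.Agent.FittStrat.Basic
import Groth.Agent.MorLib.IdealFG2

/-!
# The stratum where a module is locally free of given rank
-/

set_option autoImplicit false
set_option linter.style.haveILetI false
set_option backward.isDefEq.respectTransparency false
set_option backward.isDefEq.respectTransparency.types false

universe u

open CategoryTheory CategoryTheory.Limits AlgebraicGeometry TopologicalSpace

namespace Groth.Agent.FittStrat

open Groth.Agent

variable {X : Scheme.{u}}

theorem sheafIdeal_mono {M : X.Modules} (hM : Coh.IsQCoh M) (hft : CohB1.IsFT M) {k l : ℕ} (h : k ≤ l) :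
    Fitt.sheafIdeal M k ≤ Fitt.sheafIdeal M l := fun U => by
  rw [FittX.sheafIdeal_ideal hM hft, FittX.sheafIdeal_ideal hM hft]
  haveI := QCoh.finite_of_isFT hM hft U.2
  exact FittX.ideal_mono h

theorem isFinLocFreeOfRank_iff_two {M : X.Modules} (hM : Coh.IsQCoh M) (hft : CohB1.IsFT M) (r : ℕ) :
    FlatMod.IsFinLocFreeOfRank r M ↔
      (r ≠ 0 → Fitt.sheafIdeal M (r - 1) = ⊥) ∧ Fitt.sheafIdeal M r = ⊤ := by
  rw [FittX.isFinLocFreeOfRank_iff hM hft]
  refine ⟨fun h => ⟨fun hr => h.1 _ (by omega), h.2 r le_rfl⟩, fun h => ⟨fun k hk => ?_, fun k hk => ?_⟩⟩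
  · exact le_bot_iff.1 ((sheafIdeal_mono hM hft (show k ≤ r - 1 by omega)).trans (h.1 (by omega)).le)
  · exact top_le_iff.1 (h.2.ge.trans (sheafIdeal_mono hM hft hk))

/-- The ideal sheaf whose vanishing is the first condition. -/
noncomputable def lowerIdeal (M : X.Modules) : ℕ → X.IdealSheafData
  | 0 => ⊥
  | r + 1 => Fitt.sheafIdeal M r

theorem exists_factor_rank_iff {M : X.Modules} (hM : Coh.IsQCoh M) (hft : CohB1.IsFT M) (r : ℕ)
    {T : Scheme.{u}} (g : T ⟶ X) :
    (∃ g' : T ⟶ piece (lowerIdeal M r) (Fitt.sheafIdeal M r),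
        g' ≫ pieceι (lowerIdeal M r) (Fitt.sheafIdeal M r) = g) ↔
      FlatMod.IsFinLocFreeOfRank r ((Scheme.Modules.pullback g).obj M) := by
  rw [exists_factor_iff, isFinLocFreeOfRank_iff_two (QCoh.isQCoh_pullback g hM) (FittX.isFT_pullback g hM hft),
    FittX.sheafIdeal_comap g hM hft r]
  refine and_congr_left fun _ => ?_
  cases r with
  | zero => simp [lowerIdeal]
  | succ r => simp [lowerIdeal, FittX.sheafIdeal_comap g hM hft r]

theorem quasiCompact_opens_ι_compl (J : X.IdealSheafData) (hJ : ∀ U, (J.ideal U).FG) :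
    QuasiCompact (Scheme.Opens.ι (J.support.compl : X.Opens)) := by
  refine quasiCompact_iff_forall_isAffineOpen.2 fun U (hU : IsAffineOpen U) => ?_
  obtain ⟨s, hs⟩ := hJ ⟨U, hU⟩
  have h : (J.support.compl ⊓ U : X.Opens) = ⨆ a : (s : Set Γ(X, U)), X.basicOpen (a : Γ(X, U)) := by
    refine Opens.ext (Set.ext fun x => ?_)
    have hsupp : x ∈ U → (x ∈ J.support ↔ x ∈ X.zeroLocus (U := U) (s : Set Γ(X, U))) := fun hx => by
      have h1 := Set.ext_iff.1 (J.coe_support_inter ⟨U, hU⟩) x
      have h2 : X.zeroLocus (U := U) (J.ideal ⟨U, hU⟩ : Set Γ(X, U)) = X.zeroLocus (U := U) (s : Set Γ(X, U)) := by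
        rw [← hs]; exact X.zeroLocus_span _
      rw [Set.mem_inter_iff, h2] at h1
      exact ⟨fun h => (h1.1 ⟨h, hx⟩).1, fun h => (h1.2 ⟨h, hx⟩).1⟩
    simp only [Opens.coe_inf, Set.mem_inter_iff, Opens.coe_iSup, Set.mem_iUnion, SetLike.mem_coe]
    constructor
    · rintro ⟨hx, hxU⟩
      have : x ∉ X.zeroLocus (U := U) (s : Set Γ(X, U)) := fun h => hx ((hsupp hxU).2 h)
      rw [Scheme.mem_zeroLocus_iff] at this
      push Not at this
      obtain ⟨a, ha, hxa⟩ := this
      exact ⟨⟨a, ha⟩, hxa⟩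
    · rintro ⟨a, hxa⟩
      have hxU : x ∈ U := X.basicOpen_le _ hxa
      refine ⟨fun h => ?_, hxU⟩
      exact (Scheme.mem_zeroLocus_iff _ _ _).1 ((hsupp hxU).1 h) a.1 a.2 hxa
  have hc : IsCompact ((J.support.compl ⊓ U : X.Opens) : Set X) := by
    rw [h, Opens.coe_iSup]
    exact isCompact_iUnion fun a => (hU.basicOpen _).isCompact
  rw [(Scheme.Opens.ι (J.support.compl : X.Opens)).isOpenEmbedding.isInducing.isCompact_iff]
  show IsCompact (Scheme.Opens.ι (J.support.compl : X.Opens) '' (Scheme.Opens.ι (J.support.compl : X.Opens) ⁻¹' U))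
  rw [Set.image_preimage_eq_range_inter, Scheme.Opens.range_ι]
  exact hc

theorem quasiCompact_pieceι (I J : X.IdealSheafData) (hJ : ∀ U, (J.ideal U).FG) :
    QuasiCompact (pieceι I J) := by
  haveI := quasiCompact_opens_ι_compl J hJ
  haveI : QuasiCompact (I.subschemeι ⁻¹ᵁ J.support.compl).ι :=
    MorphismProperty.of_isPullback (isPullback_morphismRestrict I.subschemeι J.support.compl) inferInstance
  exact inferInstanceAs (QuasiCompact ((I.subschemeι ⁻¹ᵁ J.support.compl).ι ≫ I.subschemeι))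

theorem locallyOfFinitePresentation_pieceι (I J : X.IdealSheafData) (hI : ∀ U, (I.ideal U).FG) :
    LocallyOfFinitePresentation (pieceι I J) := by
  haveI : LocallyOfFinitePresentation I.subschemeι := MorLib.IdealFG.lfp_subschemeι hI
  exact inferInstanceAs (LocallyOfFinitePresentation ((I.subschemeι ⁻¹ᵁ J.support.compl).ι ≫ I.subschemeι))

theorem fg_lowerIdeal {M : X.Modules} (hfp : CohB1.IsFP M) : ∀ (r : ℕ) (U : X.affineOpens),
    ((lowerIdeal M r).ideal U).FG
  | 0, U => Submodule.fg_bot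
  | r + 1, U => FittX.isFiniteTypeIdeal hfp r U

end Groth.Agent.FittStrat
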