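import Groth.Agent.FittX.Sheaf

/-!
# The locally closed stratum cut out by a chain of ideal sheaves
-/

set_option autoImplicit false
set_option linter.style.haveILetI false
set_option backward.isDefEq.respectTransparency.types false

universe u

open CategoryTheory CategoryTheory.Limits AlgebraicGeometry

namespace Groth.Agent.FittStrat

variable {S : Scheme.{u}} (I J : S.IdealSheafData)

/-- The locally closed subscheme `V(I) \ V(J)`. -/
noncomputable def piece : Scheme.{u} := (I.subschemeι ⁻¹ᵁ J.support.compl).toScheme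

/-- The immersion of `V(I) \ V(J)`. -/
noncomputable def pieceι : piece I J ⟶ S := (I.subschemeι ⁻¹ᵁ J.support.compl).ι ≫ I.subschemeι

instance : IsImmersion (pieceι I J) :=
  inferInstanceAs (IsImmersion ((I.subschemeι ⁻¹ᵁ J.support.compl).ι ≫ I.subschemeι))

theorem exists_factor_iff {T : Scheme.{u}} (g : T ⟶ S) :
    (∃ g' : T ⟶ piece I J, g' ≫ pieceι I J = g) ↔ I.comap g = ⊥ ∧ J.comap g = ⊤ := by
  constructor
  · rintro ⟨g', rfl⟩
    refine ⟨?_, ?_⟩
    · rw [eq_bot_iff, ← Scheme.IdealSheafData.le_map_iff_comap_le, Scheme.IdealSheafData.map_bot]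
      calc I = I.subschemeι.ker := (Scheme.IdealSheafData.ker_subschemeι I).symm
        _ ≤ ((g' ≫ (I.subschemeι ⁻¹ᵁ J.support.compl).ι) ≫ I.subschemeι).ker := Scheme.Hom.le_ker_comp _ _
        _ = (g' ≫ pieceι I J).ker := congrArg Scheme.Hom.ker (Category.assoc _ _ _)
    · rw [← Scheme.IdealSheafData.support_eq_bot_iff, eq_bot_iff]
      intro t ht
      rw [Scheme.IdealSheafData.support_comap] at ht
      exact absurd ht (g' t).2
  · rintro ⟨h0, h1⟩
    have hI : I.subschemeι.ker ≤ g.ker := by
      rw [Scheme.IdealSheafData.ker_subschemeι, ← Scheme.IdealSheafData.map_bot g]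
      exact Scheme.IdealSheafData.le_map_iff_comap_le.2 h0.le
    suffices ∃ g' : T ⟶ (I.subschemeι ⁻¹ᵁ J.support.compl).toScheme,
      g' ≫ (I.subschemeι ⁻¹ᵁ J.support.compl).ι ≫ I.subschemeι = g from this
    refine ⟨IsOpenImmersion.lift (I.subschemeι ⁻¹ᵁ J.support.compl).ι
      (IsClosedImmersion.lift I.subschemeι g hI) ?_, ?_⟩
    · rw [Scheme.Opens.range_ι]
      rintro _ ⟨t, rfl⟩ ht
      change (IsClosedImmersion.lift I.subschemeι g hI ≫ I.subschemeι) t ∈ J.support at ht
      rw [IsClosedImmersion.lift_fac] at ht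
      have : t ∈ (J.comap g).support := by rw [Scheme.IdealSheafData.support_comap]; exact ht
      rw [h1, Scheme.IdealSheafData.support_top] at this
      exact this
    · exact (IsOpenImmersion.lift_fac_assoc _ _ _ _).trans (IsClosedImmersion.lift_fac _ _ _)

theorem isClosedImmersion_pieceι (h : J = ⊤) : IsClosedImmersion (pieceι I J) := by
  have : I.subschemeι ⁻¹ᵁ J.support.compl = ⊤ := by
    subst h
    refine top_le_iff.1 fun x _ hx => ?_
    rw [Scheme.IdealSheafData.support_top] at hx
    exact hx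
  have : IsIso (I.subschemeι ⁻¹ᵁ J.support.compl).ι := by
    rw [this]; exact (Scheme.topIso _).isIso_hom
  exact inferInstanceAs (IsClosedImmersion ((I.subschemeι ⁻¹ᵁ J.support.compl).ι ≫ I.subschemeι))

end Groth.Agent.FittStrat
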